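import Cfsg.Agent.Lib.H17.M22M.MonoTw

set_option autoImplicit false

/-!
# Words in three marked elements of a group (helper17)

Letters `0 ↦ a, 1 ↦ a⁻¹, 2 ↦ b, 3 ↦ b⁻¹, 4 ↦ c, 5 ↦ c⁻¹`.
-/

namespace Cfsg.Agent.Lib.H17.HSM

open Cfsg.Agent.Lib.H17.CosetCert (WT act)

section

variable {Γ : Type*} [Group Γ] (ga gb gc : Γ)

/-- the letters -/
def gl (x : ℕ) : Γ :=
  match x with
  | 0 => ga | 1 => ga⁻¹ | 2 => gb | 3 => gb⁻¹ | 4 => gc | 5 => gc⁻¹ | _ => 1

/-- the value of a word -/
def wv (w : List ℕ) : Γ := (w.map (gl ga gb gc)).prod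

theorem wv_nil : wv ga gb gc [] = 1 := rfl

theorem wv_cons (x : ℕ) (w : List ℕ) : wv ga gb gc (x :: w) = gl ga gb gc x * wv ga gb gc w := by
  unfold wv
  rw [List.map_cons, List.prod_cons]

theorem wv_append (u v : List ℕ) : wv ga gb gc (u ++ v) = wv ga gb gc u * wv ga gb gc v := by
  unfold wv
  rw [List.map_append, List.prod_append]

theorem act_inv' {Q : Type*} [MulAction Γ Q] (g : ℕ → Γ) (u : List ℕ) (q : Q) :
    act (fun x => (g x)⁻¹) u q = ((u.map g).prod)⁻¹ • q := by
  induction u generalizing q with
  | nil => simp [act]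
  | cons x u ih =>
    change act (fun x => (g x)⁻¹) u ((g x)⁻¹ • q) = _
    rw [ih, List.map_cons, List.prod_cons, mul_inv_rev, mul_smul]

theorem map_gl {K L : Type*} [Group K] [Group L] (f : K →* L) (x y z : K) (i : ℕ) :
    f (gl x y z i) = gl (f x) (f y) (f z) i := by
  unfold gl
  split <;> simp

theorem map_wv {K L : Type*} [Group K] [Group L] (f : K →* L) (x y z : K) (w : List ℕ) :
    f (wv x y z w) = wv (f x) (f y) (f z) w := by
  unfold wv
  rw [map_list_prod, List.map_map]
  congr 1
  apply List.map_congr_left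
  intro i _
  exact map_gl f x y z i

/-- a word in the first four letters lies in the subgroup generated by the first two elements -/
theorem wv_mem_closure (w : List ℕ) (hw : ∀ x ∈ w, x < 4) :
    wv ga gb gc w ∈ Subgroup.closure {ga, gb} := by
  induction w with
  | nil => rw [wv_nil]; exact one_mem _
  | cons x w ih =>
    rw [wv_cons]
    have hx : x < 4 := hw x (by simp)
    have ha : ga ∈ Subgroup.closure {ga, gb} := Subgroup.subset_closure (by simp)
    have hb : gb ∈ Subgroup.closure {ga, gb} := Subgroup.subset_closure (by simp)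
    apply mul_mem _ (ih (fun y hy => hw y (List.mem_cons_of_mem _ hy)))
    interval_cases x
    · exact ha
    · exact inv_mem ha
    · exact hb
    · exact inv_mem hb

/-- the exponent sum of the third element in a word -/
def esum (w : List ℕ) : ℤ := (w.map (fun x => if x = 4 then (1 : ℤ) else if x = 5 then -1 else 0)).sum

/-- multiplying the third element by a central element -/
theorem wv_mul_central (t : Γ) (ht : t ∈ Subgroup.center Γ) (w : List ℕ) :
    wv ga gb (gc * t) w = wv ga gb gc w * t ^ esum w := by
  have hc : ∀ g : Γ, t * g = g * t := fun g => (Subgroup.mem_center_iff.mp ht g).symm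
  have hcz : ∀ (n : ℤ) (g : Γ), t ^ n * g = g * t ^ n := fun n g =>
    ((Commute.zpow_left (show Commute t g from hc g) n).eq)
  induction w with
  | nil => simp [wv, esum]
  | cons x w ih =>
    rw [wv_cons, wv_cons, ih]
    have hes : esum (x :: w) = (if x = 4 then (1 : ℤ) else if x = 5 then -1 else 0) + esum w := by
      unfold esum
      rw [List.map_cons, List.sum_cons]
    rw [hes, zpow_add]
    by_cases h4 : x = 4
    · subst h4
      simp only [gl, if_true, zpow_one]
      calc gc * t * (wv ga gb gc w * t ^ esum w) = gc * (t * wv ga gb gc w) * t ^ esum w := by group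
        _ = gc * (wv ga gb gc w * t) * t ^ esum w := by rw [hc]
        _ = gc * wv ga gb gc w * (t * t ^ esum w) := by group
    · by_cases h5 : x = 5
      · subst h5
        simp only [gl, if_neg (by norm_num : ¬ (5 : ℕ) = 4), if_true, zpow_neg, zpow_one]
        calc (gc * t)⁻¹ * (wv ga gb gc w * t ^ esum w) = gc⁻¹ * (t⁻¹ * gc) * gc⁻¹ * wv ga gb gc w * t ^ esum w := by
              have : (gc * t)⁻¹ = gc⁻¹ * (t⁻¹ * gc) * gc⁻¹ := by
                have h1 : t⁻¹ * gc = gc * t⁻¹ := by
                  have := hcz (-1) gc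
                  simpa using this
                rw [h1]; group
              rw [this]; group
          _ = gc⁻¹ * (gc * t⁻¹) * gc⁻¹ * wv ga gb gc w * t ^ esum w := by
              have h1 : t⁻¹ * gc = gc * t⁻¹ := by
                have := hcz (-1) gc
                simpa using this
              rw [h1]
          _ = t⁻¹ * (gc⁻¹ * wv ga gb gc w) * t ^ esum w := by group
          _ = (gc⁻¹ * wv ga gb gc w) * t⁻¹ * t ^ esum w := by
              have h1 : t⁻¹ * (gc⁻¹ * wv ga gb gc w) = (gc⁻¹ * wv ga gb gc w) * t⁻¹ := by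
                have := hcz (-1) (gc⁻¹ * wv ga gb gc w)
                simpa using this
              rw [h1]
          _ = gc⁻¹ * wv ga gb gc w * (t⁻¹ * t ^ esum w) := by group
      · have hx : gl ga gb (gc * t) x = gl ga gb gc x := by
          unfold gl
          split <;> simp_all
        rw [hx, if_neg h4, if_neg h5, zpow_zero, one_mul, mul_assoc]

end

end Cfsg.Agent.Lib.H17.HSM
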