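import Cfsg.Agent.Lib.H6.M11Pres
import Cfsg.Agent.Lib.H18.M11Mult
import Cfsg.Agent.Lib.H28.StemLift
import Cfsg.Agent.Lib.H17.HSM.Words

set_option autoImplicit false
set_option maxRecDepth 100000

/-!
# A pair of elements satisfying the presentation of `M11` (helper17)

Uses helper6's presentation `M11Pres.G` (simple of order `7920`), helper18's triviality of the multiplier of
`Spor.M11`, and helper28's lifting of perfect subgroups with trivial multiplier.
-/

namespace Cfsg.Agent.Lib.H17.HSM

open Cfsg.Agent.Lib.H6 Cfsg.Agent.Lib.H6.WordPres Subgroup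
open scoped commutatorElement

section abstract

variable {E : Type*} [Group E] (a b c : E)

/-- the assignment of the two generators -/
def f2 (a b : E) (j : ℕ) : E := if j = 0 then a else b

theorem gl_eq_ltv (x : ℕ) (hx : x < 4) : gl a b c x = ltv (f2 a b) x := by
  interval_cases x <;> simp [gl, ltv, f2]

theorem wv_eq_ltv (w : List ℕ) (hw : ∀ x ∈ w, x < 4) :
    wv a b c w = (w.map (ltv (f2 a b))).prod := by
  unfold wv
  congr 1
  apply List.map_congr_left
  intro x hx
  exact gl_eq_ltv a b c x (hw x hx)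

theorem W_lt4 : ∀ w ∈ M11Pres.W, ∀ x ∈ w, x < 4 := by
  intro w hw x hx
  have := M11Pres.W_lt w hw x hx
  omega

variable {a b c}

/-- the homomorphism from the presented group -/
noncomputable def hom11 (h : ∀ w ∈ M11Pres.W, wv a b c w = 1) : M11Pres.G →* E :=
  lift 2 M11Pres.W (f2 a b) M11Pres.W_lt (fun w hw => by
    rw [← wv_eq_ltv a b c w (W_lt4 w hw)]; exact h w hw)

theorem hom11_e (h : ∀ w ∈ M11Pres.W, wv a b c w = 1) (x : ℕ) (hx : x < 4) :
    hom11 h (e 2 M11Pres.W x) = ltv (f2 a b) x :=
  lift_e 2 M11Pres.W (f2 a b) _ _ x (by omega)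

theorem hom11_a (h : ∀ w ∈ M11Pres.W, wv a b c w = 1) : hom11 h (e 2 M11Pres.W 0) = a := by
  rw [hom11_e h 0 (by norm_num)]; simp [ltv, f2]

theorem hom11_b (h : ∀ w ∈ M11Pres.W, wv a b c w = 1) : hom11 h (e 2 M11Pres.W 2) = b := by
  rw [hom11_e h 2 (by norm_num)]; simp [ltv, f2]

theorem range_hom11 (h : ∀ w ∈ M11Pres.W, wv a b c w = 1) :
    (hom11 h).range = closure {a, b} := by
  apply le_antisymm
  · rw [MonoidHom.range_eq_map, ← closure_e 2 M11Pres.W, MonoidHom.map_closure, closure_le]
    rintro _ ⟨_, ⟨l, hl, rfl⟩, rfl⟩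
    rw [hom11_e h l (by omega)]
    have ha : a ∈ closure {a, b} := subset_closure (by simp)
    have hb : b ∈ closure {a, b} := subset_closure (by simp)
    have hl4 : l < 4 := by omega
    interval_cases l
    · simpa [ltv, f2] using ha
    · simpa [ltv, f2] using inv_mem ha
    · simpa [ltv, f2] using hb
    · simpa [ltv, f2] using inv_mem hb
  · rw [closure_le]
    intro g hg
    simp only [Set.mem_insert_iff, Set.mem_singleton_iff] at hg
    rcases hg with rfl | rfl
    · exact ⟨_, hom11_a h⟩
    · exact ⟨_, hom11_b h⟩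

/-- the subgroup generated by the pair is finite of order at most `7920` -/
theorem card_closure_le (h : ∀ w ∈ M11Pres.W, wv a b c w = 1) :
    Finite (closure ({a, b} : Set E)) ∧ Nat.card (closure ({a, b} : Set E)) ≤ 7920 := by
  rw [← range_hom11 h]
  have hs : Function.Surjective (hom11 h).rangeRestrict := (hom11 h).rangeRestrict_surjective
  refine ⟨Finite.of_surjective _ hs, ?_⟩
  have := Nat.card_le_card_of_surjective _ hs
  rwa [M11Pres.card_eq] at this

/-- a homomorphism from the presented group which does not kill the first generator is injective -/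
theorem ker_eq_bot_of_ne {K : Type*} [Group K] (ψ : M11Pres.G →* K)
    (hne : ψ (e 2 M11Pres.W 0) ≠ 1) : ψ.ker = ⊥ := by
  haveI := M11Pres.simple_G
  rcases (MonoidHom.normal_ker ψ).eq_bot_or_eq_top with h | h
  · exact h
  · exfalso
    apply hne
    have : e 2 M11Pres.W 0 ∈ ψ.ker := by rw [h]; trivial
    exact MonoidHom.mem_ker.1 this

/-- a homomorphism which does not kill `a` is injective on `⟨a, b⟩` -/
theorem inj_on_closure {K : Type*} [Group K] (h : ∀ w ∈ M11Pres.W, wv a b c w = 1) (σ : E →* K)
    (hne : σ a ≠ 1) : ∀ x ∈ closure ({a, b} : Set E), σ x = 1 → x = 1 := by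
  intro x hx hx1
  rw [← range_hom11 h] at hx
  obtain ⟨y, rfl⟩ := hx
  have hk := ker_eq_bot_of_ne (σ.comp (hom11 h)) (by
    rw [MonoidHom.comp_apply, hom11_a]; exact hne)
  have : y ∈ (σ.comp (hom11 h)).ker := by
    rw [MonoidHom.mem_ker, MonoidHom.comp_apply]; exact hx1
  rw [hk, mem_bot] at this
  rw [this, map_one]

/-- the subgroup generated by the pair is isomorphic to the presented group -/
noncomputable def iso11 (h : ∀ w ∈ M11Pres.W, wv a b c w = 1) (hne : a ≠ 1) :
    M11Pres.G ≃* ↥(closure ({a, b} : Set E)) :=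
  (MonoidHom.ofInjective (f := hom11 h) (by
    rw [← MonoidHom.ker_eq_bot_iff]
    exact ker_eq_bot_of_ne (hom11 h) (by rw [hom11_a]; exact hne))).trans
    (MulEquiv.subgroupCongr (range_hom11 h))

end abstract

/-! ## The concrete group -/

section concrete

open Cfsg Cfsg.Agent.Lib.H28 Cfsg.Agent.Lib.H27 Cfsg.Agent.Lib.H27.M11Fix Cfsg.Agent.Lib.H18.M11Mult

/-- the word of the first standard generator -/
def wA11 : List ℕ := [2, 0, 3, 1, 4, 4, 0, 3, 3, 0, 2, 4, 2, 1, 4, 4, 1, 3, 3, 0, 4, 1, 2, 3, 3]
/-- the word of the second standard generator -/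
def wB11 : List ℕ := [2, 1, 4, 4, 1, 3, 3, 0, 4, 1, 2, 2, 1, 4, 4, 1, 3, 3, 0, 4, 1, 2, 3, 3]

theorem mem_ab11 : ∀ w ∈ [wA11, wB11], inG11 w = true := by decide +kernel

/-- the first standard generator -/
noncomputable def a11 : G11 := ⟨wordPerm wA11, wordPerm_mem_G11 (mem_ab11 _ (by simp))⟩
/-- the second standard generator -/
noncomputable def b11 : G11 := ⟨wordPerm wB11, wordPerm_mem_G11 (mem_ab11 _ (by simp))⟩

/-- the substitution of the letters -/
def sub11 (x : ℕ) : List ℕ :=
  match x with
  | 0 => wA11 | 1 => invWord wA11 | 2 => wB11 | 3 => invWord wB11 | _ => []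

theorem coe_ltv11 (x : ℕ) (hx : x < 4) :
    ((ltv (f2 a11 b11) x : G11) : Equiv.Perm GolayPt) = wordPerm (sub11 x) := by
  interval_cases x
  · simp [ltv, f2, sub11, a11]
  · simp only [ltv, f2, sub11]
    rw [wordPerm_invWord]
    simp [a11]
  · simp [ltv, f2, sub11, b11]
  · simp only [ltv, f2, sub11]
    rw [wordPerm_invWord]
    simp [b11]

theorem coe_prod11 (w : List ℕ) (hw : ∀ x ∈ w, x < 4) :
    (((w.map (ltv (f2 a11 b11))).prod : G11) : Equiv.Perm GolayPt) = wordPerm (w.flatMap sub11) := by
  induction w with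
  | nil => rfl
  | cons x w ih =>
    rw [List.map_cons, List.prod_cons, Subgroup.coe_mul, List.flatMap_cons, wordPerm_append,
      coe_ltv11 x (hw x (by simp)), ih (fun y hy => hw y (List.mem_cons_of_mem _ hy))]

theorem rel11_chk : ∀ w ∈ M11Pres.W, eqW' (w.flatMap sub11) [] = true := by decide +kernel

theorem rel11 : ∀ w ∈ M11Pres.W, (w.map (ltv (f2 a11 b11))).prod = 1 := by
  intro w hw
  apply Subtype.ext
  rw [coe_prod11 w (W_lt4 w hw)]
  exact wordPerm_eq_of_eqW' (rel11_chk w hw)

theorem a11_ne : a11 ≠ 1 := by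
  intro h
  have h1 : wordPerm wA11 = wordPerm [] := congrArg Subtype.val h
  have := eqW'_of_wordPerm_eq h1
  revert this
  decide +kernel

/-- the homomorphism onto the concrete group -/
noncomputable def homG11 : M11Pres.G →* G11 := lift 2 M11Pres.W (f2 a11 b11) M11Pres.W_lt rel11

theorem homG11_bijective : Function.Bijective homG11 := by
  have hinj : Function.Injective homG11 := by
    rw [← MonoidHom.ker_eq_bot_iff]
    apply ker_eq_bot_of_ne
    have : homG11 (e 2 M11Pres.W 0) = ltv (f2 a11 b11) 0 :=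
      lift_e 2 M11Pres.W (f2 a11 b11) _ _ 0 (by norm_num)
    rw [this]
    simpa [ltv, f2] using a11_ne
  haveI : Finite G11 := inferInstance
  rw [Nat.bijective_iff_injective_and_card]
  exact ⟨hinj, by rw [M11Pres.card_eq, card_G11]⟩

/-- finite stem extensions of the presented group are trivial -/
theorem pres_mult (Γ : Type) [Group Γ] [Finite Γ] (σ : Γ →* M11Pres.G)
    (hσ : Cfsg.IsStemExtension σ) : σ.ker = ⊥ := by
  obtain ⟨hs, hc, hd⟩ := hσ
  have hk : (homG11.comp σ).ker = σ.ker := by
    ext x
    rw [MonoidHom.mem_ker, MonoidHom.mem_ker, MonoidHom.comp_apply]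
    constructor
    · intro h
      exact homG11_bijective.1 (by rw [h, map_one])
    · intro h
      rw [h, map_one]
  have := ker_eq_bot Γ (homG11.comp σ) ⟨homG11_bijective.2.comp hs, by rw [hk]; exact hc,
    by rw [hk]; exact hd⟩
  rw [← hk]; exact this

end concrete

/-! ## The lifting data for a subgroup generated by such a pair -/

section lifting

variable {G : Type} [Group G] {a b c : G}

/-- finite stem extensions of `⟨a, b⟩` are trivial -/
theorem closure_mult (h : ∀ w ∈ M11Pres.W, wv a b c w = 1) (hne : a ≠ 1)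
    (E : Type) [Group E] [Finite E] (τ : E →* ↥(closure ({a, b} : Set G)))
    (hτ : Cfsg.IsStemExtension τ) : τ.ker = ⊥ := by
  obtain ⟨hs, hc, hd⟩ := hτ
  set ι := (iso11 h hne).symm with hι
  have hk : (ι.toMonoidHom.comp τ).ker = τ.ker := by
    ext x
    rw [MonoidHom.mem_ker, MonoidHom.mem_ker, MonoidHom.comp_apply]
    constructor
    · intro h1
      exact ι.injective (by rw [MulEquiv.coe_toMonoidHom] at h1; rw [h1, map_one])
    · intro h1
      rw [h1, map_one]
  have := pres_mult E (ι.toMonoidHom.comp τ) ⟨ι.surjective.comp hs, by rw [hk]; exact hc,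
    by rw [hk]; exact hd⟩
  rw [← hk]; exact this

/-- `⟨a, b⟩` is perfect -/
theorem closure_perfect (h : ∀ w ∈ M11Pres.W, wv a b c w = 1) (hne : a ≠ 1) :
    ⁅closure ({a, b} : Set G), closure ({a, b} : Set G)⁆ = closure ({a, b} : Set G) := by
  set U := closure ({a, b} : Set G) with hU
  haveI : IsSimpleGroup ↥U := by
    haveI := M11Pres.simple_G
    exact (iso11 h hne).symm.isSimpleGroup
  haveI : Finite ↥U := (card_closure_le h).1
  have hcard : Nat.card ↥U = 7920 := by
    rw [← Nat.card_congr (iso11 h hne).toEquiv, M11Pres.card_eq]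
  have hn : (commutator ↥U).Normal := by
    rw [_root_.commutator_def]
    infer_instance
  have htop : commutator ↥U = ⊤ := by
    rcases hn.eq_bot_or_eq_top with hb | ht
    · exfalso
      have hcomm : ∀ x y : ↥U, x * y = y * x := by
        intro x y
        have hm : ⁅x, y⁆ ∈ commutator ↥U := by
          rw [_root_.commutator_def]
          exact Subgroup.commutator_mem_commutator (Subgroup.mem_top x) (Subgroup.mem_top y)
        rw [hb, Subgroup.mem_bot, commutatorElement_eq_one_iff_mul_comm] at hm
        exact hm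
      let _ : CommGroup ↥U := { (inferInstance : Group ↥U) with mul_comm := hcomm }
      have hp := IsSimpleGroup.prime_card (α := ↥U)
      rw [hcard] at hp
      norm_num at hp
    · exact ht
  have := Subgroup.map_subtype_commutator U
  rw [htop, ← MonoidHom.range_eq_map, Subgroup.range_subtype] at this
  exact this.symm

end lifting

end Cfsg.Agent.Lib.H17.HSM
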