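import Cfsg.Agent.Lib.H17.M22M.AbsTools
import Cfsg.Agent.Lib.H17.HSM.Pres
import Cfsg.Agent.Lib.H17.HSM.M11Side

set_option autoImplicit false
set_option maxRecDepth 100000

/-!
# The core counting argument for central extensions of `HS` (helper17)
-/

namespace Cfsg.Agent.Lib.H17.HSM

open Subgroup Cfsg.Agent.Lib.H6

/-- the normalised relator in which the third generator has exponent sum one -/
def w0W : List ℕ := Cert.exactL.getLast (by decide)

theorem exactL_eq : Cert.exactL = M11Pres.W ++ [w0W] := by decide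

theorem W_sub_exact : ∀ w ∈ M11Pres.W, w ∈ Cert.exactL := by
  intro w hw
  rw [exactL_eq]
  exact List.mem_append_left _ hw

theorem esum_w0W : esum w0W = 1 := by decide

section count

variable {E G : Type*} [Group E] [Group G]

/-- the counting argument -/
theorem count_main (σ : E →* G) (hs : Function.Surjective σ) (hG : Nat.card G = 44352000)
    (H : Subgroup E) [Finite H] (hH : Nat.card H ≤ 7920) [Finite (E ⧸ H)] (z : E) (hz : z ∈ σ.ker)
    (hq : Nat.card (E ⧸ H) ≤ 5600 * orderOf z) :
    Finite E ∧ σ.ker = zpowers z := by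
  have hfin : Finite E := Finite.of_equiv _ (Subgroup.groupEquivQuotientProdSubgroup (s := H)).symm
  refine ⟨hfin, ?_⟩
  have h1 : Nat.card E = Nat.card (E ⧸ H) * Nat.card H :=
    Subgroup.card_eq_card_quotient_mul_card_subgroup H
  have h2 : Nat.card E = Nat.card σ.ker * Nat.card G :=
    Cfsg.Agent.Lib.H28.StemTools.card_eq_card_ker_mul σ hs
  have h3 : Nat.card σ.ker * 44352000 ≤ orderOf z * 44352000 := by
    calc Nat.card σ.ker * 44352000 = Nat.card E := by rw [h2, hG]
      _ = Nat.card (E ⧸ H) * Nat.card H := h1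
      _ ≤ (5600 * orderOf z) * 7920 := Nat.mul_le_mul hq hH
      _ = orderOf z * 44352000 := by ring
  have h4 : Nat.card σ.ker ≤ orderOf z := Nat.le_of_mul_le_mul_right h3 (by norm_num)
  have hle : zpowers z ≤ σ.ker := by rw [zpowers_le]; exact hz
  symm
  apply Subgroup.eq_of_le_of_card_ge hle
  rw [Nat.card_zpowers]
  exact h4

/-- the core theorem: a central extension of a group of order `44352000` with the exact relators, the
central relators and generation is controlled by the monomial coset enumeration -/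
theorem core (σ : E →* G) (hs : Function.Surjective σ) (hG : Nat.card G = 44352000)
    (a b c : E) (ha1 : σ a ≠ 1)
    (hex : ∀ w ∈ Cert.exactL, wv a b c w = 1)
    (hcen : ∀ w ∈ Cert.symL ++ Cert.cenL, wv a b c w ∈ σ.ker ⊓ center E)
    (hgen : closure {a, b, c} = ⊤) :
    Finite E ∧ ((wv a b c zW)⁻¹) ^ 2 = 1 ∧ σ.ker = zpowers (wv a b c zW)⁻¹ ∧ σ.ker ≤ center E := by
  have hW : ∀ w ∈ M11Pres.W, wv a b c w = 1 := fun w hw => hex w (W_sub_exact w hw)
  have hinj := inj_on_closure hW σ ha1
  have S : Setting a b c (σ.ker ⊓ center E) :=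
    { central := inf_le_right
      disj := fun x hx hxA => hinj x hx (MonoidHom.mem_ker.1 hxA.1)
      exact := hex
      rel := hcen
      gen := hgen }
  obtain ⟨hzA, hz2, hfinQ, hq⟩ := mono_main S
  obtain ⟨hfinH, hH⟩ := card_closure_le hW
  obtain ⟨hfin, hker⟩ := count_main σ hs hG (closure {a, b}) hH _ hzA.1 hq
  refine ⟨hfin, hz2, hker, ?_⟩
  rw [hker, zpowers_le]
  exact hzA.2

end count

end Cfsg.Agent.Lib.H17.HSM
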