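import Cfsg.Agent.Lib.H17.HSM.Pres
import Cfsg.Agent.Lib.H17.HSM.Model.Summary

set_option autoImplicit false

/-!
# The monomial model of the presented group `P` for `HS` (helper17)

The three generators act on `Fin 5600 × ZMod 12`; the exact relators act trivially, the central relators
act as shifts, and the first symbol relator acts as the shift by six.  Hence the order of its value in `P`
is even.
-/

namespace Cfsg.Agent.Lib.H17.HSM

open Cfsg.Agent.Lib.H17.MonoModel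

/-- the model permutations -/
noncomputable def sg (x : ℕ) : Equiv.Perm (Fin 5600 × ZMod 12) :=
  σM Model.range_ok Model.pairs_ok x

theorem gl_sg (x : ℕ) (hx : x < 6) : gl (sg 0)⁻¹ (sg 2)⁻¹ (sg 4)⁻¹ x = (sg x)⁻¹ := by
  have h0 : sg 1 = (sg 0)⁻¹ := σM_inv Model.range_ok Model.pairs_ok 0 (by norm_num)
  have h2 : sg 3 = (sg 2)⁻¹ := σM_inv Model.range_ok Model.pairs_ok 2 (by norm_num)
  have h4 : sg 5 = (sg 4)⁻¹ := σM_inv Model.range_ok Model.pairs_ok 4 (by norm_num)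
  interval_cases x
  · rfl
  · change (sg 0)⁻¹⁻¹ = (sg 1)⁻¹
    rw [h0]
  · rfl
  · change (sg 2)⁻¹⁻¹ = (sg 3)⁻¹
    rw [h2]
  · rfl
  · change (sg 4)⁻¹⁻¹ = (sg 5)⁻¹
    rw [h4]

theorem wv_sg (w : List ℕ) (hw : ∀ x ∈ w, x < 6) (e : ℕ)
    (h : checkWordM (w.map Model.tabs) e 5600 = true) :
    wv (sg 0)⁻¹ (sg 2)⁻¹ (sg 4)⁻¹ w = (shiftP 5600 (e : ZMod 12))⁻¹ := by
  rw [← word_perm_eq Model.range_ok Model.pairs_ok w hw e h]
  unfold wv
  congr 1
  apply List.map_congr_left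
  intro x hx
  exact gl_sg x (hw x hx)

theorem sg_exact : ∀ w ∈ Cert.exactL, wv (sg 0)⁻¹ (sg 2)⁻¹ (sg 4)⁻¹ w = 1 := by
  intro w hw
  rw [wv_sg w (Model.letters_lt w (by simp [hw])) 0 (Model.exact_chk w hw)]
  simp [shiftP_zero]

theorem sg_central : ∀ w ∈ Cert.symL ++ Cert.cenL, ∀ i : Fin 3,
    wv (sg 0)⁻¹ (sg 2)⁻¹ (sg 4)⁻¹ w * ![(sg 0)⁻¹, (sg 2)⁻¹, (sg 4)⁻¹] i =
      ![(sg 0)⁻¹, (sg 2)⁻¹, (sg 4)⁻¹] i * wv (sg 0)⁻¹ (sg 2)⁻¹ (sg 4)⁻¹ w := by
  intro w hw i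
  obtain ⟨e, he⟩ := Model.central_chk w hw
  have hlt : ∀ x ∈ w, x < 6 := Model.letters_lt w (by
    rw [List.append_assoc]; exact List.mem_append_right _ hw)
  rw [wv_sg w hlt e he]
  have key : ∀ x, x < 6 → (shiftP 5600 (e : ZMod 12))⁻¹ * (sg x)⁻¹ = (sg x)⁻¹ * (shiftP 5600 (e : ZMod 12))⁻¹ := by
    intro x hx
    have := shiftP_comm Model.range_ok Model.pairs_ok x hx (e : ZMod 12)
    exact (this.inv_inv).eq
  fin_cases i
  · exact key 0 (by norm_num)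
  · exact key 2 (by norm_num)
  · exact key 4 (by norm_num)

/-- the model homomorphism -/
noncomputable def modelHom : P →* Equiv.Perm (Fin 5600 × ZMod 12) :=
  homP (sg 0)⁻¹ (sg 2)⁻¹ (sg 4)⁻¹ sg_exact sg_central

theorem modelHom_z : modelHom (wv pa pb pc zW)⁻¹ = shiftP 5600 6 := by
  unfold modelHom
  rw [map_inv, homP_wv, wv_sg zW (by decide) 6 Model.sym0_chk, inv_inv]
  rfl

theorem shiftP_six_pow_eq_one {k : ℕ} (h : (shiftP 5600 6) ^ k = 1) : 2 ∣ k := by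
  rw [shiftP_pow] at h
  have := congrArg (fun f : Equiv.Perm (Fin 5600 × ZMod 12) => (f (⟨0, by norm_num⟩, 0)).2) h
  simp only [shiftP_apply, Equiv.Perm.coe_one, id_eq] at this
  change (0 : ZMod 12) + (k * 6 : ZMod 12) = 0 at this
  rw [zero_add] at this
  have h2 : ((k * 6 : ℕ) : ZMod 12) = 0 := by
    push_cast
    exact this
  have h3 := (ZMod.natCast_eq_zero_iff (k * 6) 12).1 h2
  omega

/-- the value of the first symbol relator has even order in `P` -/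
theorem two_dvd_orderOf_z : 2 ∣ orderOf ((wv pa pb pc zW)⁻¹ : P) := by
  apply shiftP_six_pow_eq_one
  rw [← modelHom_z, ← map_pow, pow_orderOf_eq_one, map_one]

end Cfsg.Agent.Lib.H17.HSM
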