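import Cfsg.Agent.Lib.H17.HSM.Stem
import Cfsg.Agent.Lib.H17.HSM.ModelHom

set_option autoImplicit false

/-!
# The Schur multiplier of a group with the `HS` data is cyclic of order 2 (helper17)
-/

namespace Cfsg.Agent.Lib.H17.HSM

open Subgroup Cfsg.Agent.Lib.H6

variable {G : Type} [Group G] {am bm cm : G}

/-- the covering homomorphism -/
noncomputable def Base.cover (B : Base am bm cm) : P →* G :=
  homP am bm cm B.exact (fun w hw i => by
    rw [B.rel w (List.mem_append_right _ hw), one_mul, mul_one])

theorem Base.cover_wv (B : Base am bm cm) (w : List ℕ) : B.cover (wv pa pb pc w) = wv am bm cm w :=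
  homP_wv _ _ _ _ _ w

theorem Base.cover_surjective (B : Base am bm cm) : Function.Surjective B.cover := by
  rw [← MonoidHom.range_eq_top, eq_top_iff, ← B.gen, closure_le]
  intro g hg
  simp only [Set.mem_insert_iff, Set.mem_singleton_iff] at hg
  rcases hg with rfl | rfl | rfl
  · exact ⟨pa, homP_pa _ _ _ _ _⟩
  · exact ⟨pb, homP_pb _ _ _ _ _⟩
  · exact ⟨pc, homP_pc _ _ _ _ _⟩

theorem card_mul_zmod2 : Nat.card (Multiplicative (ZMod 2)) = 2 := by
  rw [Nat.card_eq_fintype_card, Fintype.card_multiplicative, ZMod.card]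

/-- a cyclic group generated by an element `z` with `z ^ 2 = 1` is an image of `ZMod 2` -/
theorem exists_surj_zmod2 {K : Type*} [Group K] (z : K) (h2 : z ^ 2 = 1) (hgen : ∀ y : K, y ∈ zpowers z) :
    ∃ f : Multiplicative (ZMod 2) →* K, Function.Surjective f := by
  let f : Multiplicative (ZMod 2) →* K :=
    { toFun := fun m => z ^ (Multiplicative.toAdd m).val
      map_one' := by simp
      map_mul' := by
        intro a b
        change z ^ (Multiplicative.toAdd a + Multiplicative.toAdd b).val = _
        rw [ZMod.val_add, ← pow_eq_pow_mod _ h2, pow_add] }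
  refine ⟨f, ?_⟩
  intro y
  have hfo : IsOfFinOrder z := isOfFinOrder_iff_pow_eq_one.2 ⟨2, by norm_num, h2⟩
  obtain ⟨n, rfl⟩ := (IsOfFinOrder.mem_powers_iff_mem_zpowers hfo).2 (hgen y)
  refine ⟨Multiplicative.ofAdd (n : ZMod 2), ?_⟩
  change z ^ ((n : ZMod 2)).val = z ^ n
  rw [ZMod.val_natCast, ← pow_eq_pow_mod _ h2]

/-- a surjection from `ZMod 2` onto a subgroup generated by an element of order dividing `2` -/
theorem exists_surj_of_eq_zpowers {E : Type*} [Group E] (K : Subgroup E) (z : E) (h2 : z ^ 2 = 1)
    (hK : K = zpowers z) : ∃ f : Multiplicative (ZMod 2) →* ↥K, Function.Surjective f := by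
  subst hK
  exact exists_surj_zmod2 (K := ↥(zpowers z)) ⟨z, mem_zpowers z⟩
    (Subtype.ext (by rw [SubmonoidClass.coe_pow]; exact h2)) (by
      rintro ⟨y, hy⟩
      obtain ⟨k, rfl⟩ := mem_zpowers_iff.1 hy
      rw [mem_zpowers_iff]
      exact ⟨k, Subtype.ext (by rw [SubgroupClass.coe_zpow])⟩)

/-- words in the trivial elements and `c` -/
theorem wv_one_one {K : Type*} [Group K] (c : K) (w : List ℕ) : wv 1 1 c w = c ^ esum w := by
  induction w with
  | nil => simp [wv, esum]
  | cons x w ih =>
    rw [wv_cons, ih]
    have hes : esum (x :: w) = (if x = 4 then (1 : ℤ) else if x = 5 then -1 else 0) + esum w := by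
      unfold esum
      rw [List.map_cons, List.sum_cons]
    rw [hes, zpow_add]
    congr 1
    by_cases h4 : x = 4
    · subst h4; simp [gl]
    · by_cases h5 : x = 5
      · subst h5; simp [gl]
      · rw [if_neg h4, if_neg h5, zpow_zero]
        unfold gl
        split <;> simp_all

/-- the presented group is perfect -/
theorem P_perfect (hne : pa ≠ 1) : commutator P = ⊤ := by
  have hW : ∀ w ∈ M11Pres.W, wv pa pb pc w = 1 := fun w hw => P_exact w (W_sub_exact w hw)
  have hperf := closure_perfect hW hne
  have hle : closure ({pa, pb} : Set P) ≤ commutator P := by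
    rw [← hperf, _root_.commutator_def]
    exact Subgroup.commutator_mono le_top le_top
  have ha : pa ∈ commutator P := hle (subset_closure (by simp))
  have hb : pb ∈ commutator P := hle (subset_closure (by simp))
  have hc : pc ∈ commutator P := by
    rw [← Abelianization.ker_of (G := P), MonoidHom.mem_ker]
    have h1 : Abelianization.of pa = 1 := by
      rw [← MonoidHom.mem_ker, Abelianization.ker_of]; exact ha
    have h2 : Abelianization.of pb = 1 := by
      rw [← MonoidHom.mem_ker, Abelianization.ker_of]; exact hb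
    have h3 := congrArg (Abelianization.of (G := P)) (P_exact w0W (by rw [exactL_eq]; simp))
    rw [map_wv, h1, h2, map_one, wv_one_one, esum_w0W, zpow_one] at h3
    exact h3
  rw [eq_top_iff, ← P_gen, closure_le]
  intro g hg
  simp only [Set.mem_insert_iff, Set.mem_singleton_iff] at hg
  rcases hg with rfl | rfl | rfl
  · exact ha
  · exact hb
  · exact hc

theorem Base.main (B : Base am bm cm) : Cfsg.HasCyclicSchurMultiplier G 2 := by
  constructor
  · -- existence: the presented group
    have hs := B.cover_surjective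
    have hcen : ∀ w ∈ Cert.symL ++ Cert.cenL, wv pa pb pc w ∈ B.cover.ker ⊓ center P := by
      intro w hw
      have h1 : wv pa pb pc w ∈ B.cover.ker := by
        rw [MonoidHom.mem_ker, B.cover_wv]
        exact B.rel w (List.mem_append_right _ hw)
      exact ⟨h1, P_central w hw⟩
    have hane : B.cover pa ≠ 1 := by rw [Base.cover, homP_pa]; exact B.a_ne
    have hpane : pa ≠ 1 := fun h => hane (by rw [h, map_one])
    obtain ⟨hfin, h2, hker, hkc⟩ := core B.cover hs B.card pa pb pc hane P_exact hcen P_gen
    have hord : orderOf ((wv pa pb pc zW)⁻¹ : P) = 2 :=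
      Nat.dvd_antisymm (orderOf_dvd_of_pow_eq_one h2) two_dvd_orderOf_z
    have hperf : commutator P = ⊤ := P_perfect hpane
    refine ⟨P, inferInstance, hfin, B.cover, ⟨hs, hkc, by rw [hperf]; exact le_top⟩, ?_⟩
    obtain ⟨f, hf⟩ := exists_surj_of_eq_zpowers B.cover.ker _ h2 hker
    have hcard : Nat.card ↥B.cover.ker = 2 := by
      rw [hker, Nat.card_zpowers, hord]
    have hbij : Function.Bijective f := by
      have : Finite ↥B.cover.ker := inferInstance
      rw [Nat.bijective_iff_surjective_and_card]
      exact ⟨hf, by rw [hcard, card_mul_zmod2]⟩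
    exact ⟨(MulEquiv.ofBijective f hbij).symm⟩
  · -- universality
    intro Γ _ _ σ hσ
    obtain ⟨z, h2, hker⟩ := B.stem σ hσ
    exact exists_surj_of_eq_zpowers σ.ker z h2 hker

end Cfsg.Agent.Lib.H17.HSM
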