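import Cfsg.Agent.Lib.H17.HSM.HSTab
import Cfsg.Agent.Lib.H27.HSSimple
import Cfsg.Agent.Lib.H18.SchurTransport
import Cfsg.Agent.Lib.H17.HSM.Main

set_option autoImplicit false
set_option maxRecDepth 1000000

/-!
# The `HS` data in helper27's model `HC = Stab(V) ⊓ Stab(U')` inside `Co0` (helper17)

Relations are checked on the orbit of a hundred vectors, on which the simple group `HC` acts faithfully.
-/

namespace Cfsg.Agent.Lib.H17.HSM

open Cfsg MulAction Subgroup Cfsg.Agent.Lib.H28 Cfsg.Agent.Lib.H27 Cfsg.Agent.Lib.H27.Eng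
open Cfsg.Agent.Lib.H27.Co3GenData Cfsg.Agent.Lib.H27.HSOutData Cfsg.Agent.Lib.H27.Co3Out
open Cfsg.Agent.Lib.H27.HSOut

/-! ## All of `HC` permutes the hundred vectors -/

/-- `h` and its inverse map the hundred vectors among themselves -/
def Pinv (h : Co0) : Prop :=
  (∀ i < 100, ∃ j < 100, h • xv i = xv j) ∧ (∀ i < 100, ∃ j < 100, h⁻¹ • xv i = xv j)

theorem Tab.pinv {g : Co0} {T Ti : List ℕ} (h : Tab g T) (hi : invChk T Ti = true) : Pinv g :=
  ⟨fun i hi100 => ⟨_, (h i hi100).2, (h i hi100).1⟩,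
    fun i hi100 => ⟨_, ((h.inv hi) i hi100).2, ((h.inv hi) i hi100).1⟩⟩

theorem pinv_of_mem : ∀ h ∈ HC, Pinv h := by
  intro h hh
  rw [← K4H_eq] at hh
  unfold K4H at hh
  induction hh using Subgroup.closure_induction with
  | mem x hx =>
    rcases hx with rfl | rfl | rfl | rfl
    · exact (tab_letter 0 (by norm_num)).pinv (btab_inv 0 (by norm_num))
    · exact (tab_letter 1 (by norm_num)).pinv (btab_inv 1 (by norm_num))
    · exact (tab_letter 2 (by norm_num)).pinv (btab_inv 2 (by norm_num))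
    · exact (tab_letter 3 (by norm_num)).pinv (btab_inv 3 (by norm_num))
  | one =>
    exact ⟨fun i hi => ⟨i, hi, one_smul _ _⟩, fun i hi => ⟨i, hi, by rw [inv_one, one_smul]⟩⟩
  | mul x y _ _ hx hy =>
    constructor
    · intro i hi
      obtain ⟨j, hj, e1⟩ := hy.1 i hi
      obtain ⟨k, hk, e2⟩ := hx.1 j hj
      exact ⟨k, hk, by rw [mul_smul, e1, e2]⟩
    · intro i hi
      obtain ⟨j, hj, e1⟩ := hx.2 i hi
      obtain ⟨k, hk, e2⟩ := hy.2 j hj
      exact ⟨k, hk, by rw [mul_inv_rev, mul_smul, e1, e2]⟩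
  | inv x _ hx =>
    exact ⟨hx.2, by rw [inv_inv]; exact hx.1⟩

/-- the elements of `HC` fixing the hundred vectors -/
def Kfix : Subgroup ↥HC where
  carrier := {g | ∀ i < 100, (g : Co0) • xv i = xv i}
  one_mem' := fun i _ => one_smul _ _
  mul_mem' := by
    intro a b ha hb i hi
    rw [Subgroup.coe_mul, mul_smul, hb i hi, ha i hi]
  inv_mem' := by
    intro a ha i hi
    rw [Subgroup.coe_inv, inv_smul_eq_iff, ha i hi]

instance Kfix_normal : Kfix.Normal := by
  constructor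
  intro n hn g i hi
  obtain ⟨j, hj, e1⟩ := (pinv_of_mem g.1 g.2).2 i hi
  rw [Subgroup.coe_mul, Subgroup.coe_mul, Subgroup.coe_inv, mul_smul, mul_smul, e1, hn j hj, ← e1,
    smul_inv_smul]

instance simpleHC : IsSimpleGroup ↥HC := by
  have h := (isHS_stab Spor.leechV WH sqNorm_V sqNorm_WH dot_V_WH).1
  rw [← HC_eq] at h
  exact h

/-! ## The three generators -/

/-- the element of `HC` of a word -/
noncomputable def hw (u : List ℕ) : ↥HC := ⟨wordCo0 (gw u), gw_mem u⟩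

/-- the word of the first generator -/
def aW : List ℕ := [2, 2]
/-- the word of the second generator -/
def bW : List ℕ := [2, 1, 7, 4, 5]
/-- the word of the third generator -/
def eW : List ℕ := [5, 0, 6, 0, 0, 2, 0, 7, 4, 6, 4]

/-- the three generators -/
noncomputable def amH : ↥HC := hw aW
/-- the three generators -/
noncomputable def bmH : ↥HC := hw bW
/-- the three generators -/
noncomputable def cmH : ↥HC := hw eW

/-- the tables of the six letters of the presentation -/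
def ltab (x : ℕ) : List ℕ :=
  match x with
  | 0 => [0, 1, 15, 3, 4, 35, 21, 17, 19, 51, 59, 11, 22, 34, 64, 2, 16, 7, 42, 8, 72, 6, 12, 23, 24, 33, 82, 27, 28, 60, 66, 37, 47, 25, 13, 5, 92, 31, 38, 68, 74, 71, 18, 78, 55, 80, 46, 32, 48, 49, 85, 9, 93, 81, 86, 44, 67, 57, 58, 10, 29, 90, 62, 63, 14, 77, 30, 56, 39, 96, 75, 41, 20, 94, 40, 70, 84, 65, 43, 91, 45, 53, 26, 83, 76, 50, 54, 97, 88, 98, 61, 79, 36, 52, 73, 99, 69, 87, 89, 95]
  | 1 => [0, 1, 15, 3, 4, 35, 21, 17, 19, 51, 59, 11, 22, 34, 64, 2, 16, 7, 42, 8, 72, 6, 12, 23, 24, 33, 82, 27, 28, 60, 66, 37, 47, 25, 13, 5, 92, 31, 38, 68, 74, 71, 18, 78, 55, 80, 46, 32, 48, 49, 85, 9, 93, 81, 86, 44, 67, 57, 58, 10, 29, 90, 62, 63, 14, 77, 30, 56, 39, 96, 75, 41, 20, 94, 40, 70, 84, 65, 43, 91, 45, 53, 26, 83, 76, 50, 54, 97, 88, 98, 61, 79, 36, 52, 73, 99, 69, 87, 89, 95]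
  | 2 => [80, 47, 2, 0, 90, 14, 46, 87, 8, 44, 79, 22, 32, 99, 5, 35, 21, 84, 20, 82, 18, 1, 57, 45, 51, 60, 81, 58, 70, 37, 30, 71, 12, 67, 53, 36, 83, 91, 42, 88, 86, 97, 31, 29, 9, 85, 66, 16, 94, 61, 23, 24, 56, 4, 89, 3, 73, 92, 74, 98, 41, 72, 59, 52, 6, 62, 64, 33, 93, 7, 68, 38, 96, 63, 78, 69, 95, 77, 27, 26, 55, 10, 19, 15, 54, 50, 13, 75, 39, 17, 34, 43, 11, 28, 76, 48, 49, 25, 65, 40]
  | 3 => [3, 21, 2, 55, 53, 14, 64, 69, 8, 44, 81, 92, 32, 86, 5, 83, 47, 89, 20, 82, 18, 16, 11, 50, 51, 97, 79, 78, 93, 43, 30, 42, 12, 67, 90, 15, 35, 29, 71, 88, 99, 60, 38, 91, 9, 23, 6, 1, 95, 96, 85, 24, 63, 34, 84, 80, 52, 22, 27, 62, 25, 49, 65, 73, 66, 98, 46, 33, 70, 75, 28, 31, 61, 56, 58, 87, 94, 77, 74, 10, 0, 26, 19, 36, 17, 45, 40, 7, 39, 54, 4, 37, 57, 68, 48, 76, 72, 41, 59, 13]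
  | 4 => [33, 43, 30, 90, 80, 48, 79, 23, 55, 42, 63, 97, 95, 85, 61, 72, 58, 29, 53, 66, 34, 92, 26, 7, 65, 35, 22, 89, 31, 17, 2, 28, 60, 0, 20, 25, 54, 82, 59, 78, 62, 91, 9, 1, 71, 69, 81, 56, 5, 74, 86, 68, 94, 18, 36, 8, 47, 96, 16, 38, 32, 14, 40, 10, 88, 24, 19, 77, 51, 45, 87, 44, 15, 76, 49, 93, 73, 67, 39, 6, 4, 46, 37, 84, 83, 13, 50, 70, 64, 27, 3, 41, 21, 75, 52, 12, 57, 11, 99, 98]
  | 5 => [33, 43, 30, 90, 80, 48, 79, 23, 55, 42, 63, 97, 95, 85, 61, 72, 58, 29, 53, 66, 34, 92, 26, 7, 65, 35, 22, 89, 31, 17, 2, 28, 60, 0, 20, 25, 54, 82, 59, 78, 62, 91, 9, 1, 71, 69, 81, 56, 5, 74, 86, 68, 94, 18, 36, 8, 47, 96, 16, 38, 32, 14, 40, 10, 88, 24, 19, 77, 51, 45, 87, 44, 15, 76, 49, 93, 73, 67, 39, 6, 4, 46, 37, 84, 83, 13, 50, 70, 64, 27, 3, 41, 21, 75, 52, 12, 57, 11, 99, 98]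
  | _ => []

/-- comparison of a word with a table -/
def ltabChk (u : List ℕ) (T : List ℕ) : Bool :=
  u.all (fun x => decide (x < 8)) && (List.range 100).all (fun i => traceB u i == nthN T i)

theorem ltab_chk : (ltabChk aW (ltab 0) && ltabChk bW (ltab 2) && ltabChk eW (ltab 4)) = true := by
  decide +kernel

theorem tab_hw {u : List ℕ} {T : List ℕ} (h : ltabChk u T = true) : Tab ((hw u : ↥HC) : Co0) T := by
  unfold ltabChk at h
  rw [Bool.and_eq_true, List.all_eq_true, List.all_eq_true] at h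
  intro i hi
  have hu : ∀ x ∈ u, x < 8 := fun x hx => of_decide_eq_true (h.1 x hx)
  have hi' := h.2 i (List.mem_range.2 hi)
  rw [beq_iff_eq] at hi'
  obtain ⟨e, hlt⟩ := tab_gw u hu i hi
  rw [hi'] at e hlt
  exact ⟨e, hlt⟩

theorem ltab_inv : ∀ y < 3, invChk (ltab (2 * y)) (ltab (2 * y + 1)) = true := by decide +kernel

theorem tab_a : Tab ((amH : ↥HC) : Co0) (ltab 0) := by
  have h := ltab_chk
  rw [Bool.and_eq_true, Bool.and_eq_true] at h
  exact tab_hw h.1.1

theorem tab_b : Tab ((bmH : ↥HC) : Co0) (ltab 2) := by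
  have h := ltab_chk
  rw [Bool.and_eq_true, Bool.and_eq_true] at h
  exact tab_hw h.1.2

theorem tab_e : Tab ((cmH : ↥HC) : Co0) (ltab 4) := by
  have h := ltab_chk
  rw [Bool.and_eq_true, Bool.and_eq_true] at h
  exact tab_hw h.2

theorem amH_move : (amH : Co0) • xv 2 = xv 15 := (tab_a 2 (by norm_num)).1

theorem a_neH : amH ≠ 1 := by
  intro h
  have := amH_move
  rw [h, Subgroup.coe_one, one_smul] at this
  exact xv_ne this

theorem Kfix_eq_bot : Kfix = ⊥ := by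
  rcases Kfix_normal.eq_bot_or_eq_top with h | h
  · exact h
  · exfalso
    have : amH ∈ Kfix := by rw [h]; trivial
    have h2 := this 2 (by norm_num)
    rw [amH_move] at h2
    exact xv_ne h2.symm

theorem eq_one_of_fix (g : ↥HC) (h : ∀ i < 100, (g : Co0) • xv i = xv i) : g = 1 := by
  have : g ∈ Kfix := h
  rw [Kfix_eq_bot] at this
  exact Subgroup.mem_bot.1 this

theorem tab_gl (x : ℕ) (hx : x < 6) : Tab ((gl amH bmH cmH x : ↥HC) : Co0) (ltab x) := by
  interval_cases x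
  · exact tab_a
  · exact tab_a.inv (ltab_inv 0 (by norm_num))
  · exact tab_b
  · exact tab_b.inv (ltab_inv 1 (by norm_num))
  · exact tab_e
  · exact tab_e.inv (ltab_inv 2 (by norm_num))

/-- the table trace of a word in the six letters (last letter first) -/
def traceW (w : List ℕ) (i : ℕ) : ℕ := w.foldr (fun x j => nthN (ltab x) j) i

theorem wv_trace (w : List ℕ) (hw6 : ∀ x ∈ w, x < 6) (i : ℕ) (hi : i < 100) :
    ((wv amH bmH cmH w : ↥HC) : Co0) • xv i = xv (traceW w i) ∧ traceW w i < 100 := by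
  induction w with
  | nil =>
    refine ⟨?_, hi⟩
    rw [wv_nil, Subgroup.coe_one, one_smul]
    rfl
  | cons x w ih =>
    obtain ⟨e1, h1⟩ := ih (fun y hy => hw6 y (List.mem_cons_of_mem _ hy))
    obtain ⟨e2, h2⟩ := tab_gl x (hw6 x (by simp)) _ h1
    refine ⟨?_, h2⟩
    rw [wv_cons, Subgroup.coe_mul, mul_smul, e1, e2]
    rfl

/-! ## The relations -/

/-- the check of a relator -/
def relChk (w : List ℕ) : Bool :=
  w.all (fun x => decide (x < 6)) && (List.range 100).all (fun i => traceW w i == i)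

theorem rel_chk : (Cert.exactL ++ (Cert.symL ++ Cert.cenL)).all relChk = true := by decide +kernel

theorem relH : ∀ w ∈ Cert.exactL ++ (Cert.symL ++ Cert.cenL), wv amH bmH cmH w = 1 := by
  intro w hw
  have h := (List.all_eq_true.1 rel_chk) w hw
  unfold relChk at h
  rw [Bool.and_eq_true, List.all_eq_true, List.all_eq_true] at h
  have hw6 : ∀ x ∈ w, x < 6 := fun x hx => of_decide_eq_true (h.1 x hx)
  apply eq_one_of_fix
  intro i hi
  have hi' := h.2 i (List.mem_range.2 hi)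
  rw [beq_iff_eq] at hi'
  have := (wv_trace w hw6 i hi).1
  rw [hi'] at this
  exact this

/-! ## Generation -/

/-- words for the inverses of the four generators of `HC` -/
def genW (y : ℕ) : List ℕ :=
  match y with
  | 0 => [0, 2, 2, 0, 2, 0, 3, 0, 3, 0, 3, 0, 3, 0, 3, 0]
  | 1 => [0, 2, 0, 2, 2, 0, 3, 0, 2, 2, 0, 3, 0, 2, 2, 0, 2, 2]
  | 2 => [0, 3, 0, 3, 0, 3, 0, 3, 0, 2, 2, 0, 2, 0, 2, 0, 3, 4, 0, 4, 2, 4]
  | 3 => [0, 3, 0, 2, 2, 0, 2, 0, 2, 0, 2, 0, 2, 2, 0, 2, 4, 0, 4, 2, 4]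
  | _ => []

/-- the check of the words for the generators -/
def genChk (y : ℕ) : Bool :=
  (genW y).all (fun x => decide (x < 6)) &&
    (List.range 100).all (fun i => nthN (btab y) (traceW (genW y) i) == i)

theorem gen_chk : (List.range 4).all genChk = true := by decide +kernel

/-- the letters as elements of `HC` -/
noncomputable def hl (y : ℕ) : ↥HC := ⟨wordCo0 (gletter y), gletter_mem y⟩

theorem hl_mul_wv (y : ℕ) (hy : y < 4) : hl y * wv amH bmH cmH (genW y) = 1 := by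
  have h := (List.all_eq_true.1 gen_chk) y (List.mem_range.2 hy)
  unfold genChk at h
  rw [Bool.and_eq_true, List.all_eq_true, List.all_eq_true] at h
  have hw6 : ∀ x ∈ genW y, x < 6 := fun x hx => of_decide_eq_true (h.1 x hx)
  apply eq_one_of_fix
  intro i hi
  have hi' := h.2 i (List.mem_range.2 hi)
  rw [beq_iff_eq] at hi'
  obtain ⟨e1, h1⟩ := wv_trace (genW y) hw6 i hi
  have e2 := (tab_letter y (by omega) _ h1).1
  rw [Subgroup.coe_mul, mul_smul, e1]
  change wordCo0 (gletter y) • xv (traceW (genW y) i) = xv i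
  rw [e2, hi']

theorem gl_mem3 {Γ : Type*} [Group Γ] (a b c : Γ) (x : ℕ) : gl a b c x ∈ closure {a, b, c} := by
  have ha : a ∈ closure {a, b, c} := subset_closure (by simp)
  have hb : b ∈ closure {a, b, c} := subset_closure (by simp)
  have hc : c ∈ closure {a, b, c} := subset_closure (by simp)
  unfold gl
  split
  · exact ha
  · exact inv_mem ha
  · exact hb
  · exact inv_mem hb
  · exact hc
  · exact inv_mem hc
  · exact one_mem _

theorem wv_mem3 {Γ : Type*} [Group Γ] (a b c : Γ) (w : List ℕ) : wv a b c w ∈ closure {a, b, c} := by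
  induction w with
  | nil => rw [wv_nil]; exact one_mem _
  | cons x w ih => rw [wv_cons]; exact mul_mem (gl_mem3 a b c x) ih

theorem hl_mem (y : ℕ) (hy : y < 4) : hl y ∈ closure {amH, bmH, cmH} := by
  have h := eq_inv_of_mul_eq_one_left (hl_mul_wv y hy)
  rw [h]
  exact inv_mem (wv_mem3 _ _ _ _)

theorem genH : closure {amH, bmH, cmH} = ⊤ := by
  have hK : K4H ≤ (closure {amH, bmH, cmH}).map HC.subtype := by
    unfold K4H
    rw [closure_le]
    intro g hg
    simp only [Set.mem_insert_iff, Set.mem_singleton_iff] at hg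
    rcases hg with rfl | rfl | rfl | rfl
    · exact ⟨hl 0, hl_mem 0 (by norm_num), rfl⟩
    · exact ⟨hl 1, hl_mem 1 (by norm_num), rfl⟩
    · exact ⟨hl 2, hl_mem 2 (by norm_num), rfl⟩
    · exact ⟨hl 3, hl_mem 3 (by norm_num), rfl⟩
  rw [eq_top_iff]
  intro g _
  have hg : (g : Co0) ∈ K4H := by rw [K4H_eq]; exact g.2
  obtain ⟨n, hn, e⟩ := hK hg
  have : n = g := Subtype.ext e
  rw [← this]
  exact hn

theorem baseH : Base amH bmH cmH where
  rel := relH
  gen := genH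
  card := card_HC
  a_ne := a_neH

/-- `HC` is the group `HS` of the Prelude (as in helper27's `HSOut`) -/
def hcEquiv' : ↥HC ≃* ↥Spor.HS where
  toFun g := ⟨((g : Co0) : Equiv.Perm leechLattice),
    ⟨⟨(g : Co0).2, mem_stabilizer_iff.2 (smul_V g.2)⟩, mem_stabilizer_iff.2 (smul_U g.2)⟩⟩
  invFun h := ⟨⟨h.1, h.2.1.1⟩, ⟨mem_stabilizer_iff.2 (mem_stabilizer_iff.1 h.2.1.2),
    mem_stabilizer_iff.2 (mem_stabilizer_iff.1 h.2.2)⟩⟩
  left_inv := fun _ => rfl
  right_inv := fun _ => rfl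
  map_mul' := fun _ _ => rfl

/-- the Schur multiplier of `HS` is cyclic of order two -/
theorem hs_multiplier : Cfsg.HasCyclicSchurMultiplier ↥Cfsg.Spor.HS 2 := by
  have : Finite ↥HC := Nat.finite_of_card_ne_zero (by rw [card_HC]; norm_num)
  exact Cfsg.Agent.Lib.H18.SchurTransport.hasSchurMultiplier_of_group_mulEquiv hcEquiv' baseH.main

end Cfsg.Agent.Lib.H17.HSM
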