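import Cfsg.Agent.Lib.H27.HSOutGen

set_option autoImplicit false
set_option maxRecDepth 1000000

/-!
# The action of helper27's generators of `HC = Stab(V) ⊓ Stab(U')` on a hundred vectors (helper17)

Letters `0 s, 1 d, 2 v, 3 c, 4 s⁻¹, 5 d⁻¹, 6 v⁻¹, 7 c⁻¹` (helper27's generators of `HC` and their inverses); a word
`[x₁, …, xₙ]` stands for the element `xₙ ⋯ x₁` (first letter applied first), as for `wordCo0`.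
-/

namespace Cfsg.Agent.Lib.H17.HSM

open Cfsg MulAction Subgroup Cfsg.Agent.Lib.H28 Cfsg.Agent.Lib.H27 Cfsg.Agent.Lib.H27.Eng
open Cfsg.Agent.Lib.H27.Co3GenData Cfsg.Agent.Lib.H27.HSOutData Cfsg.Agent.Lib.H27.Co3Out
open Cfsg.Agent.Lib.H27.HSOut

/-- the inverse of `wU` -/
def wUi' : List Gen := [Gen.mono [0, 6, 4, 3, 18, 7, 2, 10, 12, 13, 20, 17, 9, 16, 22, 15, 8, 14, 1, 11, 21, 5, 19, 23] [0, 18, 6, 3, 2, 21, 1, 5, 16, 12, 7, 19, 8, 9, 17, 15, 13, 11, 4, 22, 10, 20, 14, 23] 0]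
/-- the inverse of `wVh` -/
def wVhi' : List Gen := [Gen.mono [0, 1, 6, 15, 18, 16, 4, 9, 7, 10, 8, 19, 21, 5, 11, 3, 20, 14, 2, 17, 13, 12, 22, 23] [0, 1, 18, 15, 6, 13, 2, 8, 10, 7, 9, 14, 21, 20, 17, 3, 5, 19, 4, 11, 16, 12, 22, 23] 0]

/-- the elementary words of the eight letters -/
def gletter (x : ℕ) : List Gen :=
  match x with
  | 0 => wD | 1 => wU | 2 => wVh | 3 => wCh | 4 => wDi | 5 => wUi' | 6 => wVhi' | 7 => wChi | _ => []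

/-- the elementary word of a word -/
def gw (u : List ℕ) : List Gen := u.flatMap gletter

theorem gw_append (u v : List ℕ) : gw (u ++ v) = gw u ++ gw v := List.flatMap_append

theorem gw_cons (x : ℕ) (u : List ℕ) : gw (x :: u) = gletter x ++ gw u := rfl

theorem gletter_ok : ∀ x < 8, (gletter x).all Gen.ok = true := by decide +kernel

theorem gletter_big (x : ℕ) (hx : ¬ x < 8) : gletter x = [] := by
  unfold gletter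
  split <;> first | omega | rfl

theorem gw_ok (u : List ℕ) : (gw u).all Gen.ok = true := by
  induction u with
  | nil => rfl
  | cons x u ih =>
    rw [gw_cons, List.all_append, ih, Bool.and_true]
    by_cases hx : x < 8
    · exact gletter_ok x hx
    · rw [gletter_big x hx]; rfl

/-! ## The inverse letters -/

theorem inv_chk : ∀ x < 4, wordIsOneF (gletter x ++ gletter (x + 4)) = true := by decide +kernel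

theorem gletter_pos_mem : ∀ y < 4, wordCo0 (gletter y) ∈ HC := by
  intro y hy
  apply word_memH
  interval_cases y <;> simp [gletter, sgH]

theorem gletter_inv (y : ℕ) (hy : y < 4) : wordCo0 (gletter (y + 4)) = (wordCo0 (gletter y))⁻¹ := by
  have h1 : wordCo0 (gletter y ++ gletter (y + 4)) = 1 :=
    wordCo0_eq_oneF (by
      rw [List.all_append, gletter_ok y (by omega), gletter_ok (y + 4) (by omega)]; rfl) (inv_chk y hy)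
  rw [wordCo0_append] at h1
  exact eq_inv_of_mul_eq_one_left h1

theorem gletter_mem (x : ℕ) : wordCo0 (gletter x) ∈ HC := by
  by_cases hx : x < 8
  · by_cases h4 : x < 4
    · exact gletter_pos_mem x h4
    · obtain ⟨y, rfl⟩ : ∃ y, x = y + 4 := ⟨x - 4, by omega⟩
      have hy : y < 4 := by omega
      rw [gletter_inv y hy]
      exact inv_mem (gletter_pos_mem y hy)
  · rw [gletter_big x hx, wordCo0_nil]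
    exact one_mem _

theorem gw_mem (u : List ℕ) : wordCo0 (gw u) ∈ HC := by
  induction u with
  | nil => exact one_mem _
  | cons x u ih =>
    rw [gw_cons, wordCo0_append]
    exact mul_mem ih (gletter_mem x)

/-! ## The hundred vectors -/

/-- a part of the orbit -/
def X0 : List V := [[-4, 0, 0, 0, 0, 0, 0, 0, 0, 0, 0, 0, 0, 0, 0, 0, 0, 0, 0, 0, 0, 0, 0, -4], [-2, 0, 0, 0, 0, 0, 0, 0, -2, -2, 0, 0, -2, -2, 0, -2, -2, 0, 0, 0, 0, 0, 0, -2], [-2, -2, 0, -2, 0, 0, 0, -2, 0, -2, 0, 0, 0, 0, 0, 0, -2, 0, -2, 0, 0, 0, 0, -2], [-2, 0, 0, -2, 0, -2, 0, -2, 0, 0, -2, 0, 0, 0, 0, 0, 0, 0, 0, 0, -2, -2, 0, -2], [-1, -1, -1, 3, -1, -1, -1, -1, -1, -1, -1, -1, -1, -1, -1, -1, -1, -1, -1, -1, -1, -1, -1, -1], [-2, 0, -2, 0, 0, 0, -2, 0, 0, -2, 0, 0, 0, -2, -2, 0, 0, 0, -2, 0, 0, 0, 0, -2], [-2, 0, 0, -2, -2, -2,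 0, 0, 0, 0, 0, 0, -2, -2, 0, 0, 0, 0, -2, 0, 0, 0, 0, -2], [-2, -2, 0, 0, -2, -2, 0, -2, -2, 0, 0, 0, 0, 0, 0, -2, 0, 0, 0, 0, 0, 0, 0, -2], [-2, 0, 0, 0, -2, 0, -2, 0, 0, 0, 0, 0, 0, -2, 0, -2, 0, 0, 0, 0, -2, -2, 0, -2], [-2, 0, 0, 0, 0, 0, -2, 0, 0, 0, -2, 0, 0, 0, -2, 0, 0, -2, 0, -2, -2, 0, 0, -2]]
/-- a part of the orbit -/
def X1 : List V := [[-1, -1, -1, -1, -1, -1, 3, -1, -1, -1, -1, -1, -1, -1, -1, -1, -1, -1, -1, -1, -1, -1, -1, -1], [-1, -1, -1, -1, -1, -1, -1, -1, -1, -1, -1, -1, -1, -1, -1, 3, -1, -1, -1, -1, -1, -1, -1, -1], [-2, -2, 0, 0, -2, 0, -2, 0, 0, -2, 0, 0, -2, 0, 0, 0, 0, -2, 0, 0, 0, 0, 0, -2], [-2, 0, -2, 0, -2, 0, 0, -2, 0, 0, 0, 0, 0, 0, 0, 0, 0, -2, -2, 0, -2, 0, 0, -2], [-1, -1, -1, -1, -1, -1, -1, -1, -1, -1, -1, -1, -1, -1, 3, -1, -1, -1, -1, -1, -1, -1, -1, -1], [-2, -2,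 0, -2, 0, 0, -2, 0, -2, 0, -2, 0, 0, -2, 0, 0, 0, 0, 0, 0, 0, 0, 0, -2], [-2, 0, -2, -2, -2, 0, 0, 0, -2, -2, 0, 0, 0, 0, 0, 0, 0, 0, 0, 0, 0, -2, 0, -2], [-2, -2, -2, 0, 0, 0, 0, 0, 0, -2, -2, 0, 0, 0, 0, -2, 0, 0, 0, 0, -2, 0, 0, -2], [-2, 0, -2, 0, 0, 0, 0, -2, -2, 0, -2, 0, 0, 0, -2, 0, -2, 0, 0, 0, 0, 0, 0, -2], [-2, 0, -2, 0, 0, -2, 0, 0, 0, 0, 0, 0, 0, 0, 0, -2, -2, 0, -2, 0, 0, -2, 0, -2]]
/-- a part of the orbit -/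
def X2 : List V := [[-2, 0, 0, -2, 0, 0, 0, -2, -2, 0, 0, 0, -2, 0, 0, 0, 0, -2, 0, -2, 0, 0, 0, -2], [-2, 0, -2, -2, 0, 0, -2, 0, 0, 0, 0, 0, -2, 0, 0, 0, -2, 0, 0, 0, -2, 0, 0, -2], [-2, -2, -2, 0, 0, 0, 0, 0, -2, 0, 0, -2, -2, 0, 0, 0, 0, 0, -2, 0, 0, 0, 0, -2], [-2, 0, 0, 0, 0, -2, 0, 0, 0, 0, 0, -2, -2, 0, 0, -2, 0, -2, 0, 0, -2, 0, 0, -2], [-2, -2, 0, 0, 0, 0, 0, -2, 0, 0, -2, -2, 0, 0, 0, 0, 0, -2, 0, 0, 0, 0, -2, -2], [-2, 0, -2, 0, 0, 0, 0, 0, 0, -2, 0, -2, 0, 0, 0, 0, -2, -2, 0, -2, 0, 0, 0, -2], [-2, 0, 0, -2, 0, -2, 0, 0, -2, 0, 0, -2, 0, 0, 0, 0, -2, 0, 0, 0, 0, 0, -2, -2], [-1, -1, -1, -1, -1, -1, -1, -1, -1, -1, -1, -1, 3, -1, -1, -1, -1, -1, -1, -1, -1, -1, -1, -1], [-1, 3, -1, -1, -1, -1, -1, -1, -1, -1, -1, -1, -1, -1, -1, -1, -1, -1, -1, -1, -1, -1, -1, -1], [-1, -1, 3, -1, -1, -1, -1,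 -1, -1, -1, -1, -1, -1, -1, -1, -1, -1, -1, -1, -1, -1, -1, -1, -1]]
/-- a part of the orbit -/
def X3 : List V := [[-1, -1, -1, -1, -1, -1, -1, 3, -1, -1, -1, -1, -1, -1, -1, -1, -1, -1, -1, -1, -1, -1, -1, -1], [-2, -2, -2, 0, 0, 0, -2, -2, 0, 0, 0, 0, 0, 0, 0, 0, 0, 0, 0, -2, 0, -2, 0, -2], [-1, -1, -1, -1, -1, -1, -1, -1, -1, -1, -1, -1, -1, -1, -1, -1, -1, 3, -1, -1, -1, -1, -1, -1], [-2, 0, 0, 0, -2, 0, 0, 0, -2, 0, 0, -2, 0, -2, -2, 0, 0, -2, 0, 0, 0, 0, 0, -2], [-2, 0, -2, 0, -2, -2, -2, 0, 0, 0, -2, -2, 0, 0, 0, 0, 0, 0, 0, 0, 0, 0, 0, -2], [-2, 0, 0, 0, -2, 0, -2, 0, -2, 0, 0, 0, 0, 0, 0, 0, -2, 0, -2, -2, 0, 0, 0, -2], [-1, -1, -1, -1, -1, 3, -1, -1, -1, -1, -1, -1, -1, -1, -1, -1, -1, -1, -1, -1, -1, -1, -1, -1], [-2, -2, 0, 0, -2, 0, 0, 0, 0, 0, -2, 0, 0, 0, -2, 0, 0, 0, -2, 0, 0, -2, 0, -2],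 [-2, 0, 0, 0, 0, 0, -2, -2, 0, 0, -2, 0, -2, 0, 0, -2, 0, 0, -2, 0, 0, 0, 0, -2], [-2, 0, 0, 0, -2, -2, 0, 0, 0, -2, 0, 0, 0, 0, -2, 0, -2, 0, 0, 0, -2, 0, 0, -2]]
/-- a part of the orbit -/
def X4 : List V := [[-2, 0, 0, 0, 0, -2, -2, -2, 0, 0, 0, 0, 0, -2, 0, 0, -2, -2, 0, 0, 0, 0, 0, -2], [-2, 0, 0, 0, 0, -2, 0, 0, -2, -2, -2, 0, 0, 0, 0, 0, 0, -2, -2, 0, 0, 0, 0, -2], [-2, 0, 0, 0, -2, 0, 0, -2, 0, -2, -2, 0, 0, -2, 0, 0, 0, 0, 0, -2, 0, 0, 0, -2], [-2, -2, 0, 0, 0, 0, -2, 0, 0, 0, 0, -2, 0, 0, -2, -2, -2, 0, 0, 0, 0, 0, 0, -2], [-2, 0, 0, 0, 0, 0, 0, 0, -2, 0, -2, -2, 0, 0, 0, -2, 0, 0, 0, -2, 0, -2, 0, -2], [-2, 0, 0, 0, 0, -2, 0, 0, 0, 0, -2, 0, 0, -2, -2, -2, 0, 0, 0, 0, 0, 0, -2, -2], [-2, -2, -2, 0, -2, 0, 0, 0, 0, 0, 0, 0, 0, -2, 0, 0, -2, 0, 0, 0, 0, 0, -2, -2], [-1, -1, -1, -1, -1, -1, -1,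 -1, -1, -1, -1, 3, -1, -1, -1, -1, -1, -1, -1, -1, -1, -1, -1, -1], [-2, 0, 0, -2, 0, 0, 0, 0, 0, 0, 0, 0, 0, -2, -2, 0, -2, 0, 0, -2, 0, -2, 0, -2], [-2, -2, 0, 0, 0, 0, 0, 0, -2, -2, 0, 0, 0, 0, -2, 0, 0, 0, 0, -2, 0, 0, -2, -2]]
/-- a part of the orbit -/
def X5 : List V := [[-2, 0, -2, 0, 0, 0, 0, 0, 0, 0, 0, -2, 0, 0, -2, 0, 0, 0, 0, 0, -2, -2, -2, -2], [-2, 0, 0, 0, 0, -2, 0, -2, 0, 0, 0, -2, 0, 0, -2, 0, 0, 0, -2, -2, 0, 0, 0, -2], [-2, 0, 0, 0, -2, 0, 0, 0, 0, -2, 0, -2, 0, 0, 0, -2, 0, 0, -2, 0, 0, 0, -2, -2], [-2, 0, 0, 0, 0, 0, -2, 0, 0, 0, 0, -2, -2, -2, 0, 0, 0, 0, 0, -2, 0, 0, -2, -2], [-2, 0, 0, 0, 0, 0, -2, 0, 0, -2, -2, 0, 0, 0, 0, 0, -2, 0, 0, 0, 0, -2, -2, -2], [-2, 0, 0, 0, 0, 0, 0, -2, 0, -2, 0, 0, 0, 0, -2, -2, 0, -2, 0, 0, 0, -2, 0, -2], [-1, -1, -1, -1, -1, -1, -1, -1, 3, -1, -1,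 -1, -1, -1, -1, -1, -1, -1, -1, -1, -1, -1, -1, -1], [-1, -1, -1, -1, -1, -1, -1, -1, -1, -1, -1, -1, -1, -1, -1, -1, -1, -1, -1, -1, -1, 3, -1, -1], [-2, 0, 0, -2, 0, 0, -2, 0, 0, 0, 0, -2, 0, 0, 0, 0, 0, -2, -2, 0, 0, -2, 0, -2], [-1, -1, -1, -1, -1, -1, -1, -1, -1, -1, -1, -1, -1, -1, -1, -1, -1, -1, 3, -1, -1, -1, -1, -1]]
/-- a part of the orbit -/
def X6 : List V := [[-1, -1, -1, -1, 3, -1, -1, -1, -1, -1, -1, -1, -1, -1, -1, -1, -1, -1, -1, -1, -1, -1, -1, -1], [-1, -1, -1, -1, -1, -1, -1, -1, -1, -1, -1, -1, -1, 3, -1, -1, -1, -1, -1, -1, -1, -1, -1, -1], [-2, 0, -2, 0, -2, 0, 0, 0, 0, 0, 0, 0, -2, 0, -2, -2, 0, 0, 0, -2, 0, 0, 0, -2], [-2, -2, 0, 0, 0, -2, -2, 0, 0, 0, 0, 0, 0, 0, 0, 0, 0, 0, -2, 0, -2, 0, -2, -2], [-1, -1, -1, -1, -1, -1, -1, -1, -1, -1, -1, -1, -1, -1, -1, -1, -1, -1, -1, 3,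 -1, -1, -1, -1], [-2, 0, 0, 0, -2, 0, 0, 0, -2, 0, -2, 0, -2, 0, 0, 0, 0, 0, 0, 0, -2, 0, -2, -2], [-1, -1, -1, -1, -1, -1, -1, -1, -1, -1, 3, -1, -1, -1, -1, -1, -1, -1, -1, -1, -1, -1, -1, -1], [-1, -1, -1, -1, -1, -1, -1, -1, -1, 3, -1, -1, -1, -1, -1, -1, -1, -1, -1, -1, -1, -1, -1, -1], [-2, 0, -2, 0, 0, -2, 0, 0, -2, 0, 0, 0, 0, -2, 0, 0, 0, 0, 0, -2, -2, 0, 0, -2], [-2, -2, 0, 0, 0, 0, 0, -2, 0, 0, 0, 0, -2, -2, -2, 0, 0, 0, 0, 0, -2, 0, 0, -2]]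
/-- a part of the orbit -/
def X7 : List V := [[-2, 0, -2, 0, 0, 0, 0, 0, 0, 0, -2, 0, -2, -2, 0, 0, 0, -2, 0, 0, 0, -2, 0, -2], [-2, 0, 0, 0, 0, 0, -2, -2, -2, -2, 0, -2, 0, 0, 0, 0, 0, 0, 0, 0, -2, 0, 0, -2], [-2, 0, 0, -2, 0, 0, 0, 0, 0, -2, -2, -2, -2, 0, -2, 0, 0, 0, 0, 0, 0, 0, 0, -2], [-2, -2, 0, 0, 0, -2, 0, 0, 0, -2, 0, -2, 0, -2, 0, 0, 0, 0, 0, 0, 0, -2, 0, -2], [-2, 0, 0, 0, 0, 0, 0, 0, 0, 0, -2, -2, 0, -2, 0, 0, -2, 0, -2, 0, -2, 0, 0, -2], [-2, 0, 0, 0, -2, 0, 0, -2, 0, 0, 0, -2, -2, 0, 0, 0, -2, 0, 0, 0, 0, -2, 0, -2], [-2, 0, 0, -2, 0, 0, 0, 0, -2, 0, 0, 0, 0, 0, -2, -2, 0, 0, -2, 0, -2, 0, 0, -2], [-2, 0, -2, 0, 0, -2, 0, -2, 0, -2, 0, 0, -2, 0, 0, 0, 0, 0, 0, 0, 0, 0, -2, -2], [-2, -2, 0, 0, 0, 0, 0, 0, 0, 0, 0, 0, 0, -2, 0, -2, 0, -2, -2, -2, 0, 0, 0, -2], [-2, -2, -2, -2, 0, -2, 0, 0,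 0, 0, 0, 0, 0, 0, -2, 0, 0, -2, 0, 0, 0, 0, 0, -2]]
/-- a part of the orbit -/
def X8 : List V := [[-2, 0, 0, 0, 0, 0, 0, -2, 0, 0, 0, 0, 0, 0, 0, -2, -2, 0, 0, -2, -2, 0, -2, -2], [-2, 0, 0, 0, 0, 0, 0, 0, 0, 0, 0, 0, -2, 0, -2, 0, -2, -2, -2, 0, 0, 0, -2, -2], [-2, 0, 0, -2, 0, 0, 0, 0, 0, -2, 0, 0, 0, -2, 0, 0, 0, -2, 0, 0, -2, 0, -2, -2], [-1, -1, -1, -1, -1, -1, -1, -1, -1, -1, -1, -1, -1, -1, -1, -1, -1, -1, -1, -1, -1, -1, 3, -1], [-2, 0, 0, -2, 0, -2, -2, 0, 0, -2, 0, 0, 0, 0, 0, -2, 0, 0, 0, -2, 0, 0, 0, -2], [-2, 0, 0, 0, -2, -2, 0, 0, 0, 0, 0, 0, 0, 0, 0, 0, 0, -2, 0, -2, 0, -2, -2, -2], [-2, 0, 0, 0, 0, 0, 0, -2, -2, 0, 0, 0, 0, -2, 0, 0, 0, 0, -2, 0, 0, -2, -2, -2], [-2, 0, 0, -2, -2, 0, -2, -2, 0, 0, 0, 0, 0, 0, -2, 0, 0, 0, 0, 0, 0, 0, -2, -2], [-2, -2, 0, -2, 0, 0, 0, 0, 0, 0, 0, 0, -2,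 0, 0, -2, 0, 0, 0, 0, 0, -2, -2, -2], [-2, 0, 0, 0, 0, 0, 0, 0, 0, -2, 0, 0, -2, 0, 0, 0, 0, 0, -2, -2, -2, -2, 0, -2]]
/-- a part of the orbit -/
def X9 : List V := [[-1, -1, -1, -1, -1, -1, -1, -1, -1, -1, -1, -1, -1, -1, -1, -1, 3, -1, -1, -1, -1, -1, -1, -1], [-2, -2, 0, -2, -2, 0, 0, 0, 0, 0, 0, -2, 0, 0, 0, 0, 0, 0, 0, -2, -2, 0, 0, -2], [-1, -1, -1, -1, -1, -1, -1, -1, -1, -1, -1, -1, -1, -1, -1, -1, -1, -1, -1, -1, 3, -1, -1, -1], [-2, 0, -2, 0, 0, 0, -2, 0, -2, 0, 0, 0, 0, 0, 0, -2, 0, -2, 0, 0, 0, 0, -2, -2], [-2, -2, 0, 0, 0, 0, 0, 0, -2, 0, 0, 0, 0, 0, 0, 0, -2, -2, 0, 0, -2, -2, 0, -2], [-2, 0, 0, -2, -2, 0, 0, 0, 0, 0, -2, 0, 0, 0, 0, -2, -2, -2, 0, 0, 0, 0, 0, -2], [-2, -2, 0, 0, 0, -2, 0, 0, 0, 0, -2, 0, -2, 0, 0, 0, -2, 0, 0, -2, 0, 0, 0, -2], [-2, 0, -2, -2, 0, 0, 0, 0, 0, 0, -2, 0, 0,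 0, 0, 0, 0, 0, -2, -2, 0, 0, -2, -2], [-2, 0, 0, 0, 0, -2, -2, 0, -2, 0, 0, 0, -2, 0, -2, 0, 0, 0, 0, 0, 0, -2, 0, -2], [-2, 0, -2, -2, 0, 0, 0, -2, 0, 0, 0, -2, 0, -2, 0, -2, 0, 0, 0, 0, 0, 0, 0, -2]]

/-- the orbit -/
def X : List V := X0 ++ X1 ++ X2 ++ X3 ++ X4 ++ X5 ++ X6 ++ X7 ++ X8 ++ X9

/-- access to a list of vectors -/
def nthV : List V → ℕ → V
  | [], _ => []
  | a :: _, 0 => a
  | _ :: l, k + 1 => nthV l k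

theorem X_chk : (List.range 100).all (fun i => inLeech (toFn (nthV X i))) = true := by decide +kernel

theorem X_mem (i : ℕ) (hi : i < 100) : toFn (nthV X i) ∈ leechLattice :=
  mem_of_inLeech ((List.all_eq_true.1 X_chk) i (List.mem_range.2 hi))

/-- the vectors as elements of the lattice -/
noncomputable def xv (i : ℕ) : leechLattice := mkL (nthV X i)

theorem xv_ne : xv 2 ≠ xv 15 := by
  intro h
  unfold xv at h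
  rw [mkL_of_mem (X_mem 2 (by norm_num)), mkL_of_mem (X_mem 15 (by norm_num))] at h
  have h' := congrArg Subtype.val h
  have h'' := nth_of_toFn_eq h' (k := 6) (by norm_num)
  revert h''
  decide +kernel

/-- the check of a table -/
def tabOK (W : List Gen) (T : List ℕ) : Bool :=
  (List.range 100).all (fun i => decide (actWordF W (nthV X i) = nthV X (nthN T i)) && decide (nthN T i < 100))

/-- `g` acts on the vectors by the table `T` -/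
def Tab (g : Co0) (T : List ℕ) : Prop := ∀ i < 100, g • xv i = xv (nthN T i) ∧ nthN T i < 100

theorem tab_of_ok {W : List Gen} {T : List ℕ} (hok : W.all Gen.ok = true) (h : tabOK W T = true) :
    Tab (wordCo0 W) T := by
  intro i hi
  have hc := (List.all_eq_true.1 h) i (List.mem_range.2 hi)
  simp only [Bool.and_eq_true, decide_eq_true_eq] at hc
  obtain ⟨h1, h2⟩ := hc
  refine ⟨?_, h2⟩
  unfold xv
  rw [mkL_of_mem (X_mem i hi), mkL_of_mem (X_mem _ h2)]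
  apply Subtype.ext
  rw [← actWord_spec W hok _ (X_mem i hi), ← actWordF_eq, h1]

/-- the check that two tables are inverse to each other -/
def invChk (T Ti : List ℕ) : Bool :=
  (List.range 100).all (fun i => decide (nthN T (nthN Ti i) = i) && decide (nthN Ti i < 100))

theorem Tab.inv {g : Co0} {T Ti : List ℕ} (h : Tab g T) (hi : invChk T Ti = true) : Tab g⁻¹ Ti := by
  intro i hi100
  have hc := (List.all_eq_true.1 hi) i (List.mem_range.2 hi100)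
  simp only [Bool.and_eq_true, decide_eq_true_eq] at hc
  obtain ⟨h1, h2⟩ := hc
  refine ⟨?_, h2⟩
  rw [inv_smul_eq_iff, (h _ h2).1, h1]

/-- the tables of the eight letters -/
def btab (x : ℕ) : List ℕ :=
  match x with
  | 0 => [0, 2, 5, 9, 10, 6, 15, 18, 20, 23, 27, 30, 22, 33, 36, 21, 35, 13, 39, 42, 43, 12, 46, 24, 50, 52, 54, 28, 29, 60, 14, 62, 47, 26, 65, 1, 66, 68, 69, 41, 72, 74, 76, 77, 80, 3, 16, 83, 84, 19, 85, 45, 86, 88, 89, 51, 90, 64, 53, 61, 56, 4, 7, 70, 11, 94, 92, 59, 95, 79, 91, 81, 63, 97, 82, 49, 40, 37, 99, 34, 55, 73, 58, 57, 38, 44, 48, 98, 31, 78, 67, 93, 32, 75, 25, 71, 17, 8, 96, 87]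
  | 1 => [0, 1, 6, 3, 4, 12, 16, 19, 17, 24, 28, 11, 22, 34, 32, 2, 21, 38, 40, 8, 26, 15, 35, 44, 51, 53, 48, 56, 59, 10, 36, 63, 47, 25, 31, 46, 57, 13, 7, 70, 73, 75, 77, 78, 80, 55, 5, 64, 82, 81, 9, 85, 62, 49, 69, 23, 90, 92, 91, 60, 29, 67, 93, 37, 83, 18, 30, 27, 54, 41, 71, 96, 20, 89, 42, 68, 95, 98, 52, 58, 45, 33, 72, 14, 88, 50, 39, 79, 76, 65, 61, 97, 66, 43, 74, 99, 86, 87, 94, 84]
  | 2 => [0, 3, 7, 1, 11, 13, 8, 15, 21, 25, 29, 4, 31, 35, 32, 17, 38, 2, 41, 6, 44, 19, 37, 48, 49, 51, 45, 57, 28, 59, 56, 22, 64, 9, 5, 34, 61, 12, 16, 40, 68, 42, 71, 79, 72, 82, 63, 14, 23, 24, 81, 33, 87, 50, 77, 20, 66, 27, 62, 60, 10, 92, 58, 46, 47, 54, 67, 30, 74, 94, 89, 18, 55, 69, 39, 98, 95, 86, 91, 78, 26, 85, 80, 83, 99, 53, 65, 93, 88, 75, 36, 43, 90, 97, 96, 84, 73, 52, 70, 76]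
  | 3 => [1, 4, 8, 0, 11, 14, 17, 5, 22, 26, 9, 3, 32, 15, 37, 19, 38, 35, 40, 12, 45, 7, 47, 49, 48, 29, 55, 58, 24, 50, 61, 6, 13, 60, 2, 64, 67, 21, 46, 71, 73, 54, 74, 66, 81, 25, 83, 34, 23, 28, 20, 82, 36, 10, 75, 53, 91, 27, 88, 51, 85, 87, 57, 16, 31, 18, 90, 79, 41, 68, 96, 86, 80, 89, 94, 69, 93, 42, 30, 84, 33, 59, 44, 63, 52, 72, 70, 99, 62, 65, 97, 76, 56, 92, 98, 43, 39, 95, 77, 78]
  | 4 => [0, 35, 1, 45, 61, 2, 5, 62, 97, 3, 4, 64, 21, 17, 30, 6, 46, 96, 7, 49, 8, 15, 12, 9, 23, 94, 33, 10, 27, 28, 11, 88, 92, 13, 79, 16, 14, 77, 84, 18, 76, 39, 19, 20, 85, 51, 22, 32, 86, 75, 24, 55, 25, 58, 26, 80, 60, 83, 82, 67, 29, 59, 31, 72, 57, 34, 36, 90, 37, 38, 63, 95, 40, 81, 41, 93, 42, 43, 89, 69, 44, 71, 74, 47, 48, 50, 52, 99, 53, 54, 56, 70, 66, 91, 65, 68, 98, 73, 87, 78]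
  | 5 => [0, 1, 15, 3, 4, 46, 2, 38, 19, 50, 29, 11, 5, 37, 83, 21, 6, 8, 65, 7, 72, 16, 12, 55, 9, 33, 20, 67, 10, 60, 66, 34, 14, 81, 13, 22, 30, 63, 17, 86, 18, 69, 74, 93, 23, 80, 35, 32, 26, 53, 85, 24, 78, 25, 68, 45, 27, 36, 79, 28, 59, 90, 52, 31, 47, 89, 92, 61, 75, 54, 39, 70, 82, 40, 94, 41, 88, 42, 43, 87, 44, 49, 48, 64, 99, 51, 96, 97, 84, 73, 56, 58, 57, 62, 98, 76, 71, 91, 77, 95]
  | 6 => [0, 3, 17, 1, 11, 34, 19, 2, 6, 33, 60, 4, 37, 5, 47, 7, 38, 15, 71, 21, 55, 8, 31, 48, 49, 9, 80, 57, 28, 10, 67, 12, 14, 51, 35, 13, 90, 22, 16, 74, 39, 18, 41, 91, 20, 26, 63, 64, 23, 24, 53, 25, 97, 85, 65, 72, 30, 27, 62, 29, 59, 36, 58, 46, 32, 86, 56, 66, 40, 73, 98, 42, 44, 96, 68, 89, 99, 54, 79, 43, 82, 50, 45, 83, 95, 81, 77, 52, 88, 70, 92, 78, 61, 87, 69, 76, 94, 93, 75, 84]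
  | 7 => [3, 0, 34, 11, 1, 7, 31, 21, 2, 10, 53, 4, 19, 32, 5, 13, 63, 6, 65, 15, 50, 37, 8, 48, 28, 45, 9, 57, 49, 25, 78, 64, 12, 80, 47, 17, 52, 14, 16, 96, 18, 68, 77, 95, 82, 20, 38, 22, 24, 23, 29, 59, 84, 55, 41, 26, 92, 62, 27, 81, 33, 30, 88, 83, 35, 89, 43, 36, 69, 75, 86, 39, 85, 40, 42, 54, 91, 98, 99, 67, 72, 44, 51, 46, 79, 60, 71, 61, 58, 73, 66, 56, 93, 76, 74, 97, 70, 90, 94, 87]
  | _ => []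

theorem btab_ok0 : tabOK (gletter 0) (btab 0) = true := by decide +kernel
theorem btab_ok1 : tabOK (gletter 1) (btab 1) = true := by decide +kernel
theorem btab_ok2 : tabOK (gletter 2) (btab 2) = true := by decide +kernel
theorem btab_ok3 : tabOK (gletter 3) (btab 3) = true := by decide +kernel

theorem btab_inv : ∀ x < 4, invChk (btab x) (btab (x + 4)) = true := by decide +kernel

theorem tab_letter (x : ℕ) (hx : x < 8) : Tab (wordCo0 (gletter x)) (btab x) := by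
  have hpos : ∀ y < 4, Tab (wordCo0 (gletter y)) (btab y) := by
    intro y hy
    apply tab_of_ok (gletter_ok y (by omega))
    interval_cases y
    · exact btab_ok0
    · exact btab_ok1
    · exact btab_ok2
    · exact btab_ok3
  by_cases h4 : x < 4
  · exact hpos x h4
  · obtain ⟨y, rfl⟩ : ∃ y, x = y + 4 := ⟨x - 4, by omega⟩
    have hy : y < 4 := by omega
    rw [gletter_inv y hy]
    exact (hpos y hy).inv (btab_inv y hy)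

/-- the table trace of a word in the eight letters (first letter first) -/
def traceB (u : List ℕ) (i : ℕ) : ℕ := u.foldl (fun j x => nthN (btab x) j) i

theorem tab_gw (u : List ℕ) (hu : ∀ x ∈ u, x < 8) (i : ℕ) (hi : i < 100) :
    wordCo0 (gw u) • xv i = xv (traceB u i) ∧ traceB u i < 100 := by
  induction u generalizing i with
  | nil =>
    refine ⟨?_, hi⟩
    rw [show gw [] = [] from rfl, wordCo0_nil, one_smul]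
    rfl
  | cons x u ih =>
    have hx : x < 8 := hu x (by simp)
    obtain ⟨e1, h1⟩ := tab_letter x hx i hi
    obtain ⟨e2, h2⟩ := ih (fun y hy => hu y (List.mem_cons_of_mem _ hy)) _ h1
    refine ⟨?_, h2⟩
    rw [gw_cons, wordCo0_append, mul_smul, e1, e2]
    rfl

end Cfsg.Agent.Lib.H17.HSM
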