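import Cfsg.Agent.Lib.H17.M22M.MonoData

set_option autoImplicit false

/-!
# Packed data access for monomial certificates with wide twist fields (helper17)
-/

namespace Cfsg.Agent.Lib.H17.MonoCert

open Cfsg.Agent.Lib.H17.CosetCert (force force_eq BT)

/-- decode `k` twist fields of `tb` bits (`TW = 2 ^ tb`), biased by `off` -/
noncomputable def decTwW (tb TW off : ℕ) (k : ℕ) : ℕ → List ℤ :=
  Nat.rec (motive := fun _ => ℕ → List ℤ) (fun _ => [])
    (fun _ ih tt => Int.subNatNat (Nat.mod tt TW) off :: ih (Nat.shiftRight tt tb)) k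

/-- facts `((a, x, b), t)` packed `K` to a leaf, each `wd` bits wide: `a` in the low `nb` bits, then
`b`, then `x` (3 bits), then `k` twist fields of `tb` bits. `W = 2 ^ wd`, `N = 2 ^ nb`, `TW = 2 ^ tb`. -/
noncomputable def factOfMW (t : BT) (h0 K wd W nb N k tb TW off : ℕ) (f : ℕ) :
    (ℕ × ℕ × ℕ) × List ℤ :=
  force (BT.get t h0 (Nat.div f K)) fun leaf =>
  force (Nat.mod (Nat.shiftRight leaf (Nat.mul wd (Nat.mod f K))) W) fun e =>
  force (Nat.shiftRight e (Nat.add (Nat.mul 2 nb) 3)) fun tt =>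
  ((Nat.mod e N, Nat.mod (Nat.shiftRight e (Nat.mul 2 nb)) 8, Nat.mod (Nat.shiftRight e nb) N),
    decTwW tb TW off k tt)

end Cfsg.Agent.Lib.H17.MonoCert
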