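import Cfsg.Agent.Lib.H17.HSM.Core

set_option autoImplicit false
set_option maxRecDepth 100000

/-!
# Finite stem extensions of a group with the `HS` data (helper17)
-/

namespace Cfsg.Agent.Lib.H17.HSM

open Subgroup Cfsg.Agent.Lib.H6 Cfsg.Agent.Lib.H28

/-- the data on the group `G`: three generators satisfying all the relators, and the order -/
structure Base {G : Type*} [Group G] (am bm cm : G) : Prop where
  rel : ∀ w ∈ Cert.exactL ++ (Cert.symL ++ Cert.cenL), wv am bm cm w = 1
  gen : closure {am, bm, cm} = ⊤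
  card : Nat.card G = 44352000
  a_ne : am ≠ 1

variable {G : Type} [Group G] {am bm cm : G}

theorem Base.exact (B : Base am bm cm) : ∀ w ∈ Cert.exactL, wv am bm cm w = 1 :=
  fun w hw => B.rel w (List.mem_append_left _ hw)

theorem Base.finite (B : Base am bm cm) : Finite G :=
  Nat.finite_of_card_ne_zero (by rw [B.card]; norm_num)

/-- the kernel of a finite stem extension is cyclic of order dividing 2 -/
theorem Base.stem (B : Base am bm cm) {Γ : Type} [Group Γ] [Finite Γ] (σ : Γ →* G)
    (hσ : Cfsg.IsStemExtension σ) : ∃ z : Γ, z ^ 2 = 1 ∧ σ.ker = zpowers z := by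
  obtain ⟨hs, hc, hd⟩ := hσ
  have hW : ∀ w ∈ M11Pres.W, wv am bm cm w = 1 := fun w hw => B.exact w (W_sub_exact w hw)
  set U : Subgroup G := closure {am, bm} with hU
  have hperf := closure_perfect hW B.a_ne
  have hmult := closure_mult hW B.a_ne
  have haU : am ∈ U := subset_closure (by simp)
  have hbU : bm ∈ U := subset_closure (by simp)
  obtain ⟨a, haL, ha⟩ := StemLift.exists_lift σ hs U hperf haU
  obtain ⟨b, hbL, hb⟩ := StemLift.exists_lift σ hs U hperf hbU
  obtain ⟨c0, hc0⟩ := hs cm
  -- normalisation of the third lift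
  set t : Γ := (wv a b c0 w0W)⁻¹ with ht
  have hw0 : w0W ∈ Cert.exactL := by rw [exactL_eq]; simp
  have htk : t ∈ σ.ker := by
    rw [MonoidHom.mem_ker, ht, map_inv, map_wv, ha, hb, hc0, B.exact w0W hw0, inv_one]
  have htc : t ∈ center Γ := hc htk
  set c : Γ := c0 * t with hcdef
  have hcm : σ c = cm := by
    rw [hcdef, map_mul, hc0, MonoidHom.mem_ker.1 htk, mul_one]
  have hexw0 : wv a b c w0W = 1 := by
    rw [hcdef, wv_mul_central a b c0 t htc, esum_w0W, zpow_one, ht, mul_inv_cancel]
  have hcl : closure {a, b} ≤ StemLift.L σ U := by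
    rw [closure_le]
    intro g hg
    simp only [Set.mem_insert_iff, Set.mem_singleton_iff] at hg
    rcases hg with rfl | rfl
    · exact haL
    · exact hbL
  have hex : ∀ w ∈ Cert.exactL, wv a b c w = 1 := by
    intro w hw
    rw [exactL_eq, List.mem_append, List.mem_singleton] at hw
    rcases hw with hw | rfl
    · apply StemLift.L_inf_ker σ hs hc U hperf hmult (hcl (wv_mem_closure a b c w (W_lt4 w hw)))
      rw [map_wv, ha, hb, hcm]
      exact hW w hw
    · exact hexw0
  have hcen : ∀ w ∈ Cert.symL ++ Cert.cenL, wv a b c w ∈ σ.ker ⊓ center Γ := by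
    intro w hw
    have : wv a b c w ∈ σ.ker := by
      rw [MonoidHom.mem_ker, map_wv, ha, hb, hcm]
      exact B.rel w (List.mem_append_right _ hw)
    exact ⟨this, hc this⟩
  have hgen : closure {a, b, c} = ⊤ :=
    Cfsg.Agent.Lib.H17.M22M.closure_lift_eq_top σ hc hd {a, b, c} (by
      rw [Set.image_insert_eq, Set.image_insert_eq, Set.image_singleton, ha, hb, hcm]
      exact B.gen)
  obtain ⟨-, h2, hker, -⟩ := core σ hs B.card a b c (by rw [ha]; exact B.a_ne) hex hcen hgen
  exact ⟨_, h2, hker⟩

end Cfsg.Agent.Lib.H17.HSM
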